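import Mathlib
import Cfsg.Prelude.Def_Sporadic_a
import Cfsg.Prelude.Def_SporadicCombinatorics
import Cfsg.Agent.Helper7.TernaryGolay
import Cfsg.Agent.Helper9.Steiner.AutTransport

set_option autoImplicit false

/-!
Monomial maps preserving the length-12 ternary code.
-/

namespace Cfsg.Agent.Helper9.TG

open Cfsg Cfsg.Agent.Helper7.TernaryGolay Cfsg.Agent.Helper9.Steiner

/-- a permutation with signs. -/
abbrev Mono : Type := Equiv.Perm ArrayPt × (ArrayPt → (ZMod 3)ˣ)

/-- the monomial map preserves the code. -/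
def Pres (f : Mono) : Prop :=
  ∀ x ∈ ternaryGolayCode, monomialMap f.1 f.2 x ∈ ternaryGolayCode

/-- the hexads of the code. -/
def hexads : Set (Finset ArrayPt) :=
  {h | ∃ x ∈ ternaryGolayCode, ternarySupport x = h ∧ h.card = 6}

theorem monomialMap_add (σ : Equiv.Perm ArrayPt) (c : ArrayPt → (ZMod 3)ˣ)
    (x y : ArrayPt → ZMod 3) :
    monomialMap σ c (x + y) = monomialMap σ c x + monomialMap σ c y := by
  funext i
  simp only [monomialMap, Pi.add_apply]
  ring

theorem monomialMap_smul (σ : Equiv.Perm ArrayPt) (c : ArrayPt → (ZMod 3)ˣ)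
    (a : ZMod 3) (x : ArrayPt → ZMod 3) :
    monomialMap σ c (a • x) = a • monomialMap σ c x := by
  funext i
  simp only [monomialMap, Pi.smul_apply, smul_eq_mul]
  ring

theorem monomialMap_zero (σ : Equiv.Perm ArrayPt) (c : ArrayPt → (ZMod 3)ˣ) :
    monomialMap σ c (0 : ArrayPt → ZMod 3) = 0 := by
  funext i
  simp [monomialMap]

theorem monomialMap_sum (σ : Equiv.Perm ArrayPt) (c : ArrayPt → (ZMod 3)ˣ) {ι : Type*}
    (s : Finset ι) (f : ι → ArrayPt → ZMod 3) :
    monomialMap σ c (∑ j ∈ s, f j) = ∑ j ∈ s, monomialMap σ c (f j) := by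
  classical
  induction s using Finset.induction_on with
  | empty => simp [monomialMap_zero]
  | insert a s ha ih => rw [Finset.sum_insert ha, Finset.sum_insert ha, monomialMap_add, ih]

set_option maxRecDepth 100000 in
theorem encV_lin : ∀ (c : Fin 6 → ZMod 3) (k : Fin 12),
    encV c k = ∑ j : Fin 6, c j * encV (Pi.single j 1) k := by
  decide +kernel

theorem enc_lin (c : Fin 6 → ZMod 3) : enc c = ∑ j : Fin 6, c j • enc (Pi.single j 1) := by
  funext p
  rw [Finset.sum_apply]
  simp only [Pi.smul_apply, smul_eq_mul]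
  exact encV_lin c (idx p)

/-- it suffices to check the six basis words. -/
theorem pres_of_basis (f : Mono)
    (h : ∀ j : Fin 6, monomialMap f.1 f.2 (enc (Pi.single j 1)) ∈ ternaryGolayCode) : Pres f := by
  intro x hx
  obtain ⟨c, rfl⟩ := (mem_iff x).1 hx
  rw [enc_lin, monomialMap_sum]
  refine Submodule.sum_mem _ (fun j _ => ?_)
  rw [monomialMap_smul]
  exact Submodule.smul_mem _ _ (h j)

/-- the product of permutations with signs. -/
def mmul (f g : Mono) : Mono := (f.1 * g.1, fun i => f.2 i * g.2 (f.1.symm i))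

theorem monomialMap_mmul (f g : Mono) (x : ArrayPt → ZMod 3) :
    monomialMap (mmul f g).1 (mmul f g).2 x = monomialMap f.1 f.2 (monomialMap g.1 g.2 x) := by
  funext i
  simp only [monomialMap, mmul, Units.val_mul]
  have : (f.1 * g.1).symm i = g.1.symm (f.1.symm i) := rfl
  rw [this]
  ring

theorem pres_mmul {f g : Mono} (hf : Pres f) (hg : Pres g) : Pres (mmul f g) := by
  intro x hx
  rw [monomialMap_mmul]
  exact hf _ (hg x hx)

theorem pres_one : Pres (1, fun _ => 1) := by
  intro x hx
  have : monomialMap (1 : Equiv.Perm ArrayPt) (fun _ => (1 : (ZMod 3)ˣ)) x = x := by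
    funext i
    change ((1 : (ZMod 3)ˣ) : ZMod 3) * x ((1 : Equiv.Perm ArrayPt).symm i) = x i
    rw [Units.val_one, one_mul]
    rfl
  rw [this]
  exact hx

/-- the permutation parts of the monomial maps preserving the code, as a subgroup. -/
def LS : Submonoid (Equiv.Perm ArrayPt) where
  carrier := {σ | ∃ c, Pres (σ, c)}
  one_mem' := ⟨fun _ => 1, pres_one⟩
  mul_mem' := by
    rintro σ τ ⟨c, hc⟩ ⟨d, hd⟩
    exact ⟨_, pres_mmul hc hd⟩

/-- the permutation parts of the monomial maps preserving the code, as a subgroup. -/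
def L : Subgroup (Equiv.Perm ArrayPt) where
  toSubmonoid := LS
  inv_mem' := by
    intro σ hσ
    have h1 : σ⁻¹ = σ ^ (orderOf σ - 1) := by
      rw [eq_comm, ← mul_eq_one_iff_eq_inv, ← pow_succ,
        Nat.sub_add_cancel (orderOf_pos σ), pow_orderOf_eq_one]
    rw [h1]
    exact LS.pow_mem hσ _

theorem mem_L (σ : Equiv.Perm ArrayPt) : σ ∈ L ↔ ∃ c, Pres (σ, c) := Iff.rfl

theorem support_monomialMap (σ : Equiv.Perm ArrayPt) (c : ArrayPt → (ZMod 3)ˣ)
    (x : ArrayPt → ZMod 3) :
    ternarySupport (monomialMap σ c x) = (ternarySupport x).image σ := by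
  ext i
  unfold ternarySupport monomialMap
  rw [Finset.mem_filter, Finset.mem_image]
  constructor
  · rintro ⟨-, h⟩
    refine ⟨σ.symm i, ?_, σ.apply_symm_apply i⟩
    rw [Finset.mem_filter]
    refine ⟨Finset.mem_univ _, ?_⟩
    intro h0
    apply h
    rw [h0, mul_zero]
  · rintro ⟨a, ha, rfl⟩
    rw [Finset.mem_filter] at ha
    refine ⟨Finset.mem_univ _, ?_⟩
    rw [σ.symm_apply_apply]
    exact mul_ne_zero (Units.ne_zero _) ha.2

theorem L_le_aut : L ≤ setSystemAut hexads := by
  intro σ hσ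
  obtain ⟨c, hc⟩ := (mem_L σ).1 hσ
  rw [mem_aut_iff]
  have hsub : mapSys σ hexads ⊆ hexads := by
    rintro h' ⟨h, ⟨x, hx, hxs, hcard⟩, rfl⟩
    refine ⟨monomialMap σ c x, hc x hx, ?_, ?_⟩
    · rw [support_monomialMap, hxs]
    · change (h.image σ).card = 6
      rw [Finset.card_image_of_injective _ σ.injective, hcard]
  have hfin : (hexads).Finite := Set.toFinite _
  apply Set.eq_of_subset_of_ncard_le hsub _ hfin
  unfold mapSys
  rw [Set.ncard_image_of_injective _ (Finset.image_injective σ.injective)]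

end Cfsg.Agent.Helper9.TG
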