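import Mathlib
import Cfsg.Agent.Helper9.TG.Mono

set_option autoImplicit false

/-!
Explicit monomial automorphisms of the length-12 ternary code: for each `k < 5` and each `y ≥ k`
one fixing the first `k` positions and taking position `k` to position `y`.
-/

namespace Cfsg.Agent.Helper9.TG

open Cfsg Cfsg.Agent.Helper7.TernaryGolay

def tabP : List (List (List ℕ)) := [[[0, 1, 2, 3, 4, 5, 6, 7, 8, 9, 10, 11], [1, 0, 2, 3, 4, 5, 11, 9, 10, 7, 8, 6], [2, 0, 1, 3, 4, 5, 8, 6, 7, 10, 11, 9], [3, 0, 1, 2, 4, 5, 10, 7, 6, 8, 9, 11], [4, 0, 1, 2, 3, 5, 6, 9, 10, 11, 7, 8], [5, 0, 1, 2, 3, 4, 9, 6, 8, 7, 11, 10], [6, 0, 1, 2, 3, 9, 5, 4, 7, 10, 8, 11], [7, 0, 1, 2, 3, 11, 10, 8, 9,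 4, 5, 6], [8, 0, 1, 2, 3, 10, 7, 11, 4, 6, 9, 5], [9, 0, 1, 2, 3, 6, 4, 5, 11, 8, 10, 7], [10, 0, 1, 2, 3, 8, 11, 7, 5, 9, 6, 4], [11, 0, 1, 2, 3, 7, 8, 10, 6, 5, 4, 9]], [[], [0, 1, 2, 3, 4, 5, 6, 7, 8, 9, 10, 11], [0, 2, 1, 3, 4, 5, 9, 10, 11, 6, 7, 8], [0, 3, 1, 2, 4, 5, 11, 8, 9, 7, 6, 10], [0, 4, 1, 2, 3, 5, 8, 11, 7, 9, 10, 6], [0, 5, 1, 2, 3, 4, 10, 7, 11, 6, 8, 9], [0, 6, 1, 2, 3, 9, 11, 10, 8, 4, 7, 5], [0, 7, 1, 2, 3, 11, 6, 4, 5, 8, 9, 10], [0, 8, 1, 2, 3, 10, 5, 6, 9, 11, 4, 7], [0, 9, 1, 2, 3, 6, 7, 8, 10, 5, 11, 4], [0, 10, 1, 2, 3, 8, 4, 9, 6, 7, 5, 11], [0, 11, 1, 2, 3, 7, 9, 5, 4, 10, 6, 8]], [[], [], [0, 1, 2, 3, 4, 5, 6, 7, 8, 9, 10, 11], [0, 1, 3, 2, 4, 5,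 7, 6, 10, 11, 8, 9], [0, 1, 4, 2, 3, 5, 9, 10, 6, 8, 11, 7], [0, 1, 5, 2, 3, 4, 6, 8, 9, 10, 7, 11], [0, 1, 6, 2, 3, 9, 4, 7, 5, 11, 10, 8], [0, 1, 7, 2, 3, 11, 8, 9, 10, 6, 4, 5], [0, 1, 8, 2, 3, 10, 11, 4, 7, 5, 6, 9], [0, 1, 9, 2, 3, 6, 5, 11, 4, 7, 8, 10], [0, 1, 10, 2, 3, 8, 7, 5, 11, 4, 9, 6], [0, 1, 11, 2, 3, 7, 10, 6, 8, 9, 5, 4]], [[], [], [], [0, 1, 2, 3, 4, 5, 6, 7, 8, 9, 10, 11], [0, 1, 2, 4, 3, 5, 10, 9, 11, 7, 6, 8], [0, 1, 2, 5, 3, 4, 8, 6, 7, 11, 9, 10], [0, 1, 2, 6, 3, 9, 7, 4, 10, 8, 5, 11], [0, 1, 2, 7, 3, 11, 9, 8, 4, 5, 10, 6], [0, 1, 2, 8, 3, 10, 4, 11, 6, 9, 7, 5], [0, 1, 2, 9, 3, 6, 11, 5, 8, 10, 4, 7], [0, 1, 2, 10, 3, 8, 5, 7, 9, 6, 11, 4], [0, 1, 2,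 11, 3, 7, 6, 10, 5, 4, 8, 9]], [[], [], [], [], [0, 1, 2, 3, 4, 5, 6, 7, 8, 9, 10, 11], [0, 1, 2, 3, 5, 4, 9, 11, 10, 6, 8, 7], [0, 1, 2, 3, 6, 9, 5, 8, 11, 4, 7, 10], [0, 1, 2, 3, 7, 11, 10, 5, 6, 8, 9, 4], [0, 1, 2, 3, 8, 10, 7, 9, 5, 11, 4, 6], [0, 1, 2, 3, 9, 6, 4, 10, 7, 5, 11, 8], [0, 1, 2, 3, 10, 8, 11, 6, 4, 7, 5, 9], [0, 1, 2, 3, 11, 7, 8, 4, 9, 10, 6, 5]]]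

def tabQ : List (List (List ℕ)) := [[[0, 1, 2, 3, 4, 5, 6, 7, 8, 9, 10, 11], [1, 0, 2, 3, 4, 5, 11, 9, 10, 7, 8, 6], [1, 2, 0, 3, 4, 5, 7, 8, 6, 11, 9, 10], [1, 2, 3, 0, 4, 5, 8, 7, 9, 10, 6, 11], [1, 2, 3, 4, 0, 5, 6, 10, 11, 7, 8, 9], [1, 2, 3, 4, 5, 0, 7, 9, 8, 6, 11, 10], [1, 2, 3, 4, 7, 6, 0, 8, 10, 5, 9, 11], [1, 2, 3, 4, 9, 10, 11, 0, 7, 8, 6, 5], [1, 2, 3, 4, 8, 11, 9, 6, 0, 10, 5, 7], [1, 2, 3, 4, 6, 7, 5, 11, 9, 0, 10, 8], [1, 2, 3, 4, 11, 8, 10, 7, 5, 9, 0, 6], [1, 2, 3, 4, 10, 9, 8, 5, 6, 11, 7, 0]], [[], [0, 1, 2, 3, 4, 5, 6, 7, 8, 9, 10, 11], [0, 2, 1, 3, 4, 5, 9, 10, 11, 6, 7, 8], [0, 2, 3, 1, 4, 5, 10, 9, 7, 8, 11, 6], [0, 2, 3, 4, 1, 5, 11, 8, 6, 9, 10, 7],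 [0, 2, 3, 4, 5, 1, 9, 7, 10, 11, 6, 8], [0, 2, 3, 4, 9, 11, 1, 10, 8, 5, 7, 6], [0, 2, 3, 4, 7, 8, 6, 1, 9, 10, 11, 5], [0, 2, 3, 4, 10, 6, 7, 11, 1, 8, 5, 9], [0, 2, 3, 4, 11, 9, 5, 6, 7, 1, 8, 10], [0, 2, 3, 4, 6, 10, 8, 9, 5, 7, 1, 11], [0, 2, 3, 4, 8, 7, 10, 5, 11, 6, 9, 1]], [[], [], [0, 1, 2, 3, 4, 5, 6, 7, 8, 9, 10, 11], [0, 1, 3, 2, 4, 5, 7, 6, 10, 11, 8, 9], [0, 1, 3, 4, 2, 5, 8, 11, 9, 6, 7, 10], [0, 1, 3, 4, 5, 2, 6, 10, 7, 8, 9, 11], [0, 1, 3, 4, 6, 8, 2, 7, 11, 5, 10, 9], [0, 1, 3, 4, 10, 11, 9, 2, 6, 7, 8, 5], [0, 1, 3, 4, 7, 9, 10, 8, 2, 11, 5, 6], [0, 1, 3, 4, 8, 6, 5, 9, 10, 2, 11, 7], [0, 1, 3, 4, 9, 7, 11, 6, 5, 10, 2, 8], [0, 1, 3, 4, 11, 10, 7, 5, 8, 9,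 6, 2]], [[], [], [], [0, 1, 2, 3, 4, 5, 6, 7, 8, 9, 10, 11], [0, 1, 2, 4, 3, 5, 10, 9, 11, 7, 6, 8], [0, 1, 2, 4, 5, 3, 7, 8, 6, 10, 11, 9], [0, 1, 2, 4, 7, 10, 3, 6, 9, 5, 8, 11], [0, 1, 2, 4, 8, 9, 11, 3, 7, 6, 10, 5], [0, 1, 2, 4, 6, 11, 8, 10, 3, 9, 5, 7], [0, 1, 2, 4, 10, 7, 5, 11, 8, 3, 9, 6], [0, 1, 2, 4, 11, 6, 9, 7, 5, 8, 3, 10], [0, 1, 2, 4, 9, 8, 6, 5, 10, 11, 7, 3]], [[], [], [], [], [0, 1, 2, 3, 4, 5, 6, 7, 8, 9, 10, 11], [0, 1, 2, 3, 5, 4, 9, 11, 10, 6, 8, 7], [0, 1, 2, 3, 9, 6, 4, 10, 7, 5, 11, 8], [0, 1, 2, 3, 11, 7, 8, 4, 9, 10, 6, 5], [0, 1, 2, 3, 10, 8, 11, 6, 4, 7, 5, 9], [0, 1, 2, 3, 6, 9, 5, 8, 11, 4, 7, 10], [0, 1, 2, 3, 8, 10, 7, 9, 5, 11, 4, 6], [0,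 1, 2, 3, 7, 11, 10, 5, 6, 8, 9, 4]]]

def tabS : List (List (List ℕ)) := [[[0, 0, 0, 0, 0, 0, 0, 0, 0, 0, 0, 0], [0, 0, 0, 0, 0, 0, 0, 0, 0, 0, 0, 0], [0, 0, 0, 0, 0, 0, 0, 0, 0, 0, 0, 0], [0, 0, 1, 1, 0, 0, 1, 1, 0, 1, 0, 1], [0, 0, 1, 0, 1, 0, 0, 1, 1, 1, 1, 0], [0, 0, 1, 0, 0, 1, 1, 0, 1, 0, 1, 1], [0, 1, 0, 0, 1, 0, 1, 1, 1, 0, 0, 1], [0, 1, 1, 1, 1, 0, 0, 0, 0, 0, 1, 1], [0, 0, 0, 1, 0, 0, 1, 1, 0, 0, 1, 0], [0, 1, 0, 0, 0, 1, 0, 1, 0, 1, 1, 1], [0, 0, 0, 1, 0, 0, 0, 0, 1, 1, 0, 1], [0, 1, 1, 1, 0, 1, 0, 1, 1, 0, 0, 0]], [[], [0, 0, 0, 0, 0, 0, 0, 0, 0, 0, 0, 0], [0, 0, 0, 0, 0, 0, 0, 0, 0, 0, 0, 0], [0, 0, 1, 1, 0, 0, 1, 1, 0, 1, 0, 1], [0, 0, 1, 0, 1, 0, 0, 1, 1, 1, 1,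 0], [0, 0, 1, 0, 0, 1, 1, 0, 1, 0, 1, 1], [0, 1, 0, 0, 1, 0, 1, 1, 1, 0, 0, 1], [0, 1, 1, 1, 1, 0, 0, 0, 0, 0, 1, 1], [0, 0, 0, 1, 0, 0, 1, 1, 0, 0, 1, 0], [0, 1, 0, 0, 0, 1, 0, 1, 0, 1, 1, 1], [0, 0, 0, 1, 0, 0, 0, 0, 1, 1, 0, 1], [0, 1, 1, 1, 0, 1, 0, 1, 1, 0, 0, 0]], [[], [], [0, 0, 0, 0, 0, 0, 0, 0, 0, 0, 0, 0], [0, 0, 1, 1, 0, 0, 1, 1, 0, 1, 0, 1], [0, 0, 1, 0, 1, 0, 0, 1, 1, 1, 1, 0], [0, 0, 1, 0, 0, 1, 1, 0, 1, 0, 1, 1], [0, 1, 0, 0, 1, 0, 1, 1, 1, 0, 0, 1], [0, 1, 1, 1, 1, 0, 0, 0, 0, 0, 1, 1], [0, 0, 0, 1, 0, 0, 1, 1, 0, 0, 1, 0], [0, 1, 0, 0, 0, 1, 0, 1, 0, 1, 1, 1], [0, 0, 0, 1, 0, 0, 0, 0, 1, 1, 0, 1], [0, 1, 1, 1, 0, 1, 0, 1, 1, 0, 0, 0]], [[], [], [], [0, 0, 0,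 0, 0, 0, 0, 0, 0, 0, 0, 0], [0, 0, 0, 0, 0, 0, 0, 0, 0, 0, 0, 0], [0, 0, 0, 0, 0, 0, 0, 0, 0, 0, 0, 0], [0, 1, 1, 0, 0, 0, 0, 0, 0, 0, 0, 0], [0, 1, 0, 1, 1, 1, 1, 1, 1, 1, 1, 1], [0, 0, 1, 1, 1, 1, 1, 1, 1, 1, 1, 1], [0, 1, 1, 0, 0, 0, 0, 0, 0, 0, 0, 0], [0, 0, 1, 1, 1, 1, 1, 1, 1, 1, 1, 1], [0, 1, 0, 1, 1, 1, 1, 1, 1, 1, 1, 1]], [[], [], [], [], [0, 0, 0, 0, 0, 0, 0, 0, 0, 0, 0, 0], [0, 0, 0, 0, 0, 0, 0, 0, 0, 0, 0, 0], [0, 1, 1, 0, 0, 0, 0, 0, 0, 0, 0, 0], [0, 1, 0, 1, 1, 1, 1, 1, 1, 1, 1, 1], [0, 0, 1, 1, 1, 1, 1, 1, 1, 1, 1, 1], [0, 1, 1, 0, 0, 0, 0, 0, 0, 0, 0, 0], [0, 0, 1, 1, 1, 1, 1, 1, 1, 1, 1, 1], [0, 1, 0, 1, 1, 1, 1, 1, 1, 1, 1, 1]]]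

end Cfsg.Agent.Helper9.TG
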