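import Mathlib
import Cfsg.Agent.Helper9.TG.Data

set_option autoImplicit false

/-!
The explicit monomial automorphisms are checked, and give the transitivity of the stabilisers.
-/

namespace Cfsg.Agent.Helper9.TG

open Cfsg Cfsg.Agent.Helper7.TernaryGolay

/-- table lookup. -/
def look (t : List (List (List ℕ))) (k y i : ℕ) : Fin 12 :=
  ⟨(((t.getD k []).getD y []).getD i 0) % 12, Nat.mod_lt _ (by norm_num)⟩

def wP (k y : ℕ) (i : Fin 12) : Fin 12 := look tabP k y i.val
def wQ (k y : ℕ) (i : Fin 12) : Fin 12 := look tabQ k y i.val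
def wS (k y : ℕ) (i : Fin 12) : ZMod 3 := if (look tabS k y i.val).val = 1 then 2 else 1

/-- the information positions of a vector. -/
def infoV (v : Fin 12 → ZMod 3) : Fin 6 → ZMod 3 := ![v 0, v 1, v 2, v 3, v 4, v 6]

/-- the image of the `j`-th basis word. -/
def imgV (k y : ℕ) (j : Fin 6) : Fin 12 → ZMod 3 :=
  fun i => wS k y i * encV (Pi.single j 1) (wQ k y i)

/-- the check of one witness. -/
def good (k y : ℕ) : Bool :=
  decide (∀ i : Fin 12, wQ k y (wP k y i) = i) &&
  decide (∀ i : Fin 12, wP k y (wQ k y i) = i) &&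
  decide (∀ i : Fin 12, i.val < k → wP k y i = i) &&
  decide (∀ i : Fin 12, i.val = k → (wP k y i).val = y) &&
  decide (∀ j : Fin 6, ∀ i : Fin 12, encV (infoV (imgV k y j)) i = imgV k y j i)

set_option maxRecDepth 1000000 in
theorem all_good : ∀ k : Fin 5, ∀ y : Fin 12, k.val ≤ y.val → good k.val y.val = true := by
  decide +kernel

/-- the permutation of a witness. -/
def mkPerm (p q : Fin 12 → Fin 12) (h1 : ∀ i, q (p i) = i) (h2 : ∀ i, p (q i) = i) :
    Equiv.Perm ArrayPt where
  toFun a := pt (p (idx a))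
  invFun a := pt (q (idx a))
  left_inv a := by
    change pt (q (idx (pt (p (idx a))))) = a
    rw [idx_pt, h1, pt_idx]
  right_inv a := by
    change pt (p (idx (pt (q (idx a))))) = a
    rw [idx_pt, h2, pt_idx]

theorem units_cases : ∀ z : ZMod 3, z = 1 ∨ z = 2 → ∃ u : (ZMod 3)ˣ, (u : ZMod 3) = z := by
  decide

/-- transitivity of the stabilisers in `L`. -/
theorem exists_wit (k : Fin 5) (y : Fin 12) (hky : k.val ≤ y.val) :
    ∃ σ ∈ L, (∀ j : Fin 12, j.val < k.val → σ (pt j) = pt j) ∧
      σ (pt ⟨k.val, by omega⟩) = pt y := by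
  have hg := all_good k y hky
  unfold good at hg
  simp only [Bool.and_eq_true, decide_eq_true_eq] at hg
  obtain ⟨⟨⟨⟨h1, h2⟩, h3⟩, h4⟩, h5⟩ := hg
  have hu : ∀ i : Fin 12, ∃ u : (ZMod 3)ˣ, (u : ZMod 3) = wS k.val y.val i := by
    intro i
    apply units_cases
    unfold wS
    split_ifs
    · exact Or.inr rfl
    · exact Or.inl rfl
  choose u hu using hu
  refine ⟨mkPerm (wP k.val y.val) (wQ k.val y.val) h1 h2, ?_, ?_, ?_⟩
  · rw [mem_L]
    refine ⟨fun a => u (idx a), ?_⟩
    apply pres_of_basis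
    intro j
    have heq : monomialMap (mkPerm (wP k.val y.val) (wQ k.val y.val) h1 h2)
        (fun a => u (idx a)) (enc (Pi.single j 1)) = enc (infoV (imgV k.val y.val j)) := by
      funext a
      change ((u (idx a) : (ZMod 3)ˣ) : ZMod 3) *
        encV (Pi.single j 1) (idx (pt (wQ k.val y.val (idx a)))) =
        encV (infoV (imgV k.val y.val j)) (idx a)
      rw [h5 j (idx a), idx_pt, hu]
      rfl
    rw [heq]
    exact enc_mem _
  · intro j hj
    change pt (wP k.val y.val (idx (pt j))) = pt j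
    rw [idx_pt, h3 j hj]
  · change pt (wP k.val y.val (idx (pt ⟨k.val, by omega⟩))) = pt y
    rw [idx_pt]
    congr 1
    apply Fin.ext
    exact h4 ⟨k.val, by omega⟩ rfl

end Cfsg.Agent.Helper9.TG
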