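import Mathlib
import Cfsg.Agent.Helper9.TG.Wit
import Cfsg.Agent.S0425
import Cfsg.Agent.S1592
import Cfsg.Agent.S1593

set_option autoImplicit false

/-!
The monomial group of the length-12 ternary code.
-/

namespace Cfsg.Agent.Helper9.TG

open Cfsg Cfsg.Agent.Helper7.TernaryGolay Cfsg.Agent.Helper9.Steiner

theorem steiner_hexads : IsSteinerSystem 5 6 hexads := Cfsg.Agent.S1592.result.1

theorem card_arrayPt : Fintype.card ArrayPt = 12 := by decide

theorem aut_facts : Nat.card (setSystemAut hexads) = 95040 ∧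
    ∀ x : Fin 5 ↪ ArrayPt, MulAction.stabilizer (setSystemAut hexads) x = ⊥ := by
  obtain ⟨h1, -, h3⟩ := Cfsg.Agent.S0425.result card_arrayPt steiner_hexads
  exact ⟨h1.2, h3⟩

theorem pt_injective : Function.Injective pt := by
  intro a b h
  rw [← idx_pt a, ← idx_pt b, h]

/-- the base. -/
def base : Fin 5 ↪ ArrayPt := ⟨fun i => pt ⟨i.val, by omega⟩, by
  intro a b h
  have := pt_injective h
  exact Fin.ext (Fin.mk.inj_iff.1 this)⟩

theorem peel5 (a : Equiv.Perm ArrayPt) (ha : a ∈ setSystemAut hexads)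
    (hfix : ∀ j : Fin 12, j.val < 5 → a (pt j) = pt j) : a ∈ L := by
  have h1 : (⟨a, ha⟩ : setSystemAut hexads) ∈
      MulAction.stabilizer (setSystemAut hexads) base := by
    rw [MulAction.mem_stabilizer_iff]
    apply Function.Embedding.ext
    intro i
    exact hfix ⟨i.val, by omega⟩ i.isLt
  rw [aut_facts.2 base, Subgroup.mem_bot] at h1
  have h2 : a = 1 := congrArg Subtype.val h1
  rw [h2]
  exact L.one_mem

theorem peel_step (k : Fin 5)
    (ih : ∀ a : Equiv.Perm ArrayPt, a ∈ setSystemAut hexads →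
      (∀ j : Fin 12, j.val < k.val + 1 → a (pt j) = pt j) → a ∈ L)
    (a : Equiv.Perm ArrayPt) (ha : a ∈ setSystemAut hexads)
    (hfix : ∀ j : Fin 12, j.val < k.val → a (pt j) = pt j) : a ∈ L := by
  set k' : Fin 12 := ⟨k.val, by omega⟩ with hk'
  set y : Fin 12 := idx (a (pt k')) with hy
  have hay : a (pt k') = pt y := by rw [hy, pt_idx]
  have hky : k.val ≤ y.val := by
    by_contra hlt
    push Not at hlt
    have h1 := hfix y hlt
    have h2 : pt k' = pt y := a.injective (hay.trans h1.symm)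
    have h3 := pt_injective h2
    rw [← h3] at hlt
    exact absurd hlt (lt_irrefl _)
  obtain ⟨σ, hσL, hσfix, hσk⟩ := exists_wit k y hky
  have hσA : σ ∈ setSystemAut hexads := L_le_aut hσL
  have hb : σ⁻¹ * a ∈ L := by
    apply ih _ (Subgroup.mul_mem _ (Subgroup.inv_mem _ hσA) ha)
    intro j hj
    change σ⁻¹ (a (pt j)) = pt j
    rw [Equiv.Perm.inv_eq_iff_eq]
    rcases Nat.lt_succ_iff_lt_or_eq.1 hj with hlt | heq
    · rw [hfix j hlt, hσfix j hlt]
    · have : j = k' := Fin.ext heq
      rw [this, hay, hσk]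
  have : a = σ * (σ⁻¹ * a) := by group
  rw [this]
  exact L.mul_mem hσL hb

theorem aut_le_L : setSystemAut hexads ≤ L := by
  intro a ha
  have p4 := peel_step 4 (fun a ha h => peel5 a ha h)
  have p3 := peel_step 3 p4
  have p2 := peel_step 2 p3
  have p1 := peel_step 1 p2
  have p0 := peel_step 0 p1
  exact p0 a ha (fun j hj => absurd hj (Nat.not_lt_zero _))

theorem L_eq_aut : L = setSystemAut hexads := le_antisymm L_le_aut aut_le_L

theorem card_L : Nat.card L = 95040 := by
  rw [L_eq_aut]
  exact aut_facts.1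

theorem units_pm : ∀ u : (ZMod 3)ˣ, u = 1 ∨ u = -1 := by decide

/-- the signs are determined by the permutation up to a global sign. -/
theorem sign_unique {σ : Equiv.Perm ArrayPt} {c c' : ArrayPt → (ZMod 3)ˣ}
    (h : Pres (σ, c)) (h' : Pres (σ, c')) : c' = c ∨ c' = fun i => -c i := by
  have hinv : σ⁻¹ ∈ L := L.inv_mem ((mem_L σ).2 ⟨c, h⟩)
  obtain ⟨e, he⟩ := (mem_L _).1 hinv
  have m1 := pres_mmul h he
  have m2 := pres_mmul h' he
  have hone : σ * σ⁻¹ = 1 := mul_inv_cancel σ
  have r1 := Cfsg.Agent.S1593.result (fun i => c i * e (σ.symm i)) (by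
    intro x hx
    have := m1 x hx
    unfold mmul at this
    simp only [hone] at this
    exact this)
  have r2 := Cfsg.Agent.S1593.result (fun i => c' i * e (σ.symm i)) (by
    intro x hx
    have := m2 x hx
    unfold mmul at this
    simp only [hone] at this
    exact this)
  rcases r1 with r1 | r1 <;> rcases r2 with r2 | r2
  · left
    funext i
    have a1 : c i * e (σ.symm i) = _ := r1 i
    have a2 : c' i * e (σ.symm i) = _ := r2 i
    rw [← a1] at a2
    exact mul_right_cancel a2
  · right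
    funext i
    have a1 : c i * e (σ.symm i) = _ := r1 i
    have a2 : c' i * e (σ.symm i) = _ := r2 i
    have : c' i * e (σ.symm i) = -c i * e (σ.symm i) := by rw [a2, neg_mul, a1]
    exact mul_right_cancel this
  · right
    funext i
    have a1 : c i * e (σ.symm i) = _ := r1 i
    have a2 : c' i * e (σ.symm i) = _ := r2 i
    have : c' i * e (σ.symm i) = -c i * e (σ.symm i) := by rw [a2, neg_mul, a1, neg_neg]
    exact mul_right_cancel this
  · left
    funext i
    have a1 : c i * e (σ.symm i) = _ := r1 i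
    have a2 : c' i * e (σ.symm i) = _ := r2 i
    rw [← a1] at a2
    exact mul_right_cancel a2

theorem pres_neg {σ : Equiv.Perm ArrayPt} {c : ArrayPt → (ZMod 3)ˣ} (h : Pres (σ, c)) :
    Pres (σ, fun i => -c i) := by
  intro x hx
  have h1 : monomialMap σ (fun i => -c i) x = (-1 : ZMod 3) • monomialMap σ c x := by
    funext i
    simp only [monomialMap, Pi.smul_apply, smul_eq_mul, Units.val_neg]
    ring
  change monomialMap σ (fun i => -c i) x ∈ ternaryGolayCode
  rw [h1]
  exact Submodule.smul_mem _ _ (h x hx)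

/-- the monomial maps preserving the code correspond to the elements of `L` with a sign. -/
noncomputable def presEquiv : {f : Mono // Pres f} ≃ L × (ZMod 3)ˣ := by
  refine Equiv.ofBijective (fun f => (⟨f.1.1, (mem_L _).2 ⟨f.1.2, f.2⟩⟩, f.1.2 (pt 0))) ⟨?_, ?_⟩
  · rintro ⟨⟨σ, c⟩, hf⟩ ⟨⟨τ, d⟩, hg⟩ h
    simp only [Prod.mk.injEq, Subtype.mk.injEq] at h
    obtain ⟨h1, h2⟩ := h
    subst h1
    apply Subtype.ext
    simp only [Prod.mk.injEq, true_and]
    rcases sign_unique hf hg with h3 | h3
    · exact h3.symm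
    · exfalso
      rw [h3] at h2
      simp only at h2
      have : ∀ u : (ZMod 3)ˣ, u ≠ -u := by decide
      exact this _ h2
  · rintro ⟨⟨σ, hσ⟩, u⟩
    obtain ⟨c, hc⟩ := (mem_L σ).1 hσ
    by_cases hu : c (pt 0) = u
    · exact ⟨⟨(σ, c), hc⟩, by simp [hu]⟩
    · refine ⟨⟨(σ, fun i => -c i), pres_neg hc⟩, ?_⟩
      simp only [Prod.mk.injEq, true_and]
      rcases units_pm (c (pt 0)) with h1 | h1 <;> rcases units_pm u with h2 | h2
      · exact absurd (h1.trans h2.symm) hu
      · rw [h1, h2]
      · rw [h1, h2, neg_neg]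
      · exact absurd (h1.trans h2.symm) hu

theorem card_pres : Nat.card {f : Mono // Pres f} = 190080 := by
  rw [Nat.card_congr presEquiv, Nat.card_prod, card_L]
  have : Nat.card (ZMod 3)ˣ = 2 := by
    rw [Nat.card_eq_fintype_card]
    decide
  rw [this]

end Cfsg.Agent.Helper9.TG
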